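import Mathlib

/-! The field with 8 elements as 3-bit codes. -/

set_option autoImplicit false

namespace Cfsg.Agent.Lib.Sz8

def mulTab : Nat := 0x3461257042351760637241501526734021475630571364207654321000000000

def mulN (a b : Nat) : Nat := Nat.mod (Nat.shiftRight mulTab (Nat.mul 4 (Nat.add (Nat.mul 8 a) b))) 16 % 8

/-- `F₈` -/
structure K8 where
  v : Fin 8
deriving DecidableEq

def kE (n : Nat) : K8 := ⟨⟨n % 8, Nat.mod_lt _ (by norm_num)⟩⟩

def k8Equiv : Fin 8 ≃ K8 := ⟨K8.mk, K8.v, fun _ => rfl, fun _ => rfl⟩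

instance k8Fintype : Fintype K8 := Fintype.ofEquiv _ k8Equiv
instance k8Zero : Zero K8 := ⟨kE 0⟩
instance k8One : One K8 := ⟨kE 1⟩
instance k8Add : Add K8 := ⟨fun a b => kE (Nat.xor a.v.val b.v.val)⟩
instance k8Mul : Mul K8 := ⟨fun a b => kE (mulN a.v.val b.v.val)⟩
instance k8Neg : Neg K8 := ⟨fun a => a⟩
instance k8Inv : Inv K8 :=
  ⟨fun a => kE (mulN (mulN a.v.val a.v.val) (mulN (mulN a.v.val a.v.val) (mulN a.v.val a.v.val)))⟩

instance k8Field : Field K8 :=
  Field.ofMinimalAxioms K8 (by decide +kernel) (by decide +kernel) (by decide +kernel)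
    (by decide +kernel) (by decide +kernel) (by decide +kernel) (by decide +kernel) (by decide +kernel)
    (by decide +kernel) ⟨0, 1, by decide +kernel⟩

theorem card_k8 : Fintype.card K8 = 8 := by
  rw [Fintype.card_congr k8Equiv.symm, Fintype.card_fin]

/-- the Frobenius automorphism `x ↦ x²` -/
def frob : K8 ≃+* K8 where
  toFun a := a * a
  invFun a := (a * a) * (a * a)
  left_inv := by decide +kernel
  right_inv := by decide +kernel
  map_mul' := by decide +kernel
  map_add' := by decide +kernel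

theorem frob_apply (a : K8) : frob a = a * a := rfl

end Cfsg.Agent.Lib.Sz8
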