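import Cfsg.Agent.Lib.Sz8.Field
import Cfsg.Agent.Lib.LieTwisted.SuzukiOut
import Cfsg.Agent.Lib.SzTori.Count

/-! `Sz(8):3` and a 48-dimensional module over the field with two elements. -/

set_option autoImplicit false
set_option linter.style.haveILetI false

namespace Cfsg.Agent.Lib.Sz8

open Cfsg.Agent.Lib.LieTwisted.Suzuki Matrix

theorem hF : IsSzField K8 1 := ⟨by rw [card_k8]; norm_num⟩

/-- `Sz(8)` -/
abbrev N : Type := ↥(Cfsg.Sz K8 1)

instance nFinite : Finite N := Finite.of_injective (fun g : N => g.1) Subtype.val_injective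

/-- the Galois group of `F₈` -/
abbrev Gal : Subgroup (K8 ≃+* K8) := Subgroup.zpowers frob

theorem frob_cube : frob ^ 3 = 1 := RingEquiv.ext (by decide +kernel)

theorem frob_order : orderOf frob = 3 := by
  haveI : Fact (Nat.Prime 3) := ⟨Nat.prime_three⟩
  refine orderOf_eq_prime frob_cube fun h => ?_
  have := congrArg (fun f : K8 ≃+* K8 => f (kE 2)) h
  revert this
  decide +kernel

instance galFinite : Finite Gal :=
  Nat.finite_of_card_ne_zero (by rw [Nat.card_zpowers, frob_order]; norm_num)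

theorem gal_cases (c : Gal) : (c : K8 ≃+* K8) = 1 ∨ (c : K8 ≃+* K8) = frob ∨ (c : K8 ≃+* K8) = frob ^ 2 := by
  obtain ⟨n, hn⟩ : ∃ n : ℕ, (c : K8 ≃+* K8) = frob ^ n := by
    obtain ⟨z, hz⟩ := Subgroup.mem_zpowers_iff.1 c.2
    refine ⟨(z % 3).toNat, ?_⟩
    rw [← hz, ← zpow_natCast, Int.toNat_of_nonneg (Int.emod_nonneg z (by norm_num)),
      ← zpow_mod_orderOf frob z, frob_order]
    norm_num
  rw [hn, ← pow_mod_orderOf, frob_order]
  have : n % 3 < 3 := Nat.mod_lt _ (by norm_num)
  interval_cases (n % 3) <;> simp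

/-- action of the Galois group on `Sz(8)` -/
noncomputable def galAct : Gal →* MulAut N := (hF.fieldHom le_rfl).comp Gal.subtype

/-- `Sz(8):3` -/
abbrev G : Type := N ⋊[galAct] Gal

instance gFinite : Finite G := Finite.of_equiv _ SemidirectProduct.equivProd.symm

theorem card_N : Nat.card N = 29120 := by
  rw [show N = ↥(Cfsg.Sz K8 1) from rfl, hF.card_group le_rfl, card_k8]
  norm_num

theorem card_G : Nat.card G = 87360 := by
  rw [SemidirectProduct.card, Nat.card_zpowers, frob_order, card_N]

theorem mat_galAct (c : Gal) (n : N) : mat (galAct c n) = (mat n).map (c : K8 ≃+* K8) := rfl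

/-- the underlying matrix semilinear map on `4 × 4` matrices -/
abbrev Mod : Type := Multiplicative (Matrix (Fin 4) (Fin 4) K8)

/-- the twist `x ↦ x^4` of a matrix, transposed -/
def tw (A : Matrix (Fin 4) (Fin 4) K8) : Matrix (Fin 4) (Fin 4) K8 :=
  (A.map ((frob ^ 2 : K8 ≃+* K8))).transpose

theorem tw_mul (A B : Matrix (Fin 4) (Fin 4) K8) : tw (A * B) = tw B * tw A := by
  rw [tw, tw, tw, Matrix.map_mul, Matrix.transpose_mul]

theorem tw_one : tw 1 = 1 := by
  rw [tw, Matrix.map_one _ (map_zero _) (map_one _), Matrix.transpose_one]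

/-- `Sz(8)` acting by `X ↦ g X g^σᵀ` -/
noncomputable def linAct : N →* MulAut Mod where
  toFun n := AddEquiv.toMultiplicative
    { toFun := fun X => mat n * X * tw (mat n)
      invFun := fun X => mat n⁻¹ * X * tw (mat n⁻¹)
      left_inv := fun X => by
        show mat n⁻¹ * (mat n * X * tw (mat n)) * tw (mat n⁻¹) = X
        rw [← Matrix.mul_assoc, ← Matrix.mul_assoc, ← mat_mul, inv_mul_cancel, mat_one, Matrix.one_mul,
          Matrix.mul_assoc, ← tw_mul, ← mat_mul, inv_mul_cancel, mat_one, tw_one, Matrix.mul_one]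
      right_inv := fun X => by
        show mat n * (mat n⁻¹ * X * tw (mat n⁻¹)) * tw (mat n) = X
        rw [← Matrix.mul_assoc, ← Matrix.mul_assoc, ← mat_mul, mul_inv_cancel, mat_one, Matrix.one_mul,
          Matrix.mul_assoc, ← tw_mul, ← mat_mul, mul_inv_cancel, mat_one, tw_one, Matrix.mul_one]
      map_add' := fun X Y => by rw [Matrix.mul_add, Matrix.add_mul] }
  map_one' := MulEquiv.ext fun X => by
    show Multiplicative.ofAdd (mat 1 * Multiplicative.toAdd X * tw (mat 1)) = X
    rw [mat_one, tw_one, Matrix.one_mul, Matrix.mul_one]; rfl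
  map_mul' a b := MulEquiv.ext fun X => by
    show Multiplicative.ofAdd (mat (a * b) * Multiplicative.toAdd X * tw (mat (a * b))) =
      Multiplicative.ofAdd (mat a * (mat b * Multiplicative.toAdd X * tw (mat b)) * tw (mat a))
    rw [mat_mul, tw_mul]
    simp [Matrix.mul_assoc]

/-- the Galois group acting entrywise -/
def galMod : Gal →* MulAut Mod where
  toFun c := AddEquiv.toMultiplicative (c : K8 ≃+* K8).toAddEquiv.mapMatrix
  map_one' := rfl
  map_mul' _ _ := rfl

theorem galMod_apply (c : Gal) (X : Mod) :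
    galMod c X = Multiplicative.ofAdd ((Multiplicative.toAdd X).map (c : K8 ≃+* K8)) := rfl

theorem tw_map (c : Gal) (A : Matrix (Fin 4) (Fin 4) K8) :
    tw (A.map (c : K8 ≃+* K8)) = (tw A).map (c : K8 ≃+* K8) := by
  ext i j
  show (frob ^ 2) ((c : K8 ≃+* K8) (A j i)) = (c : K8 ≃+* K8) ((frob ^ 2) (A j i))
  rcases gal_cases c with h | h | h <;> rw [h] <;> generalize A j i = a <;> revert a <;> decide +kernel

/-- the module of `Sz(8):3` -/
noncomputable def modAct : G →* MulAut Mod :=
  SemidirectProduct.lift linAct galMod fun c => MonoidHom.ext fun n => MulEquiv.ext fun X => by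
    show Multiplicative.ofAdd (mat (galAct c n) * Multiplicative.toAdd X * tw (mat (galAct c n))) =
      galMod c (linAct n ((galMod c)⁻¹ X))
    obtain ⟨Y, rfl⟩ := (galMod c).surjective X
    rw [MulAut.inv_apply, MulEquiv.symm_apply_apply]
    show _ = Multiplicative.ofAdd ((mat n * Multiplicative.toAdd Y * tw (mat n)).map (c : K8 ≃+* K8))
    rw [mat_galAct, tw_map, Matrix.map_mul, Matrix.map_mul]
    rfl

theorem modAct_inl (n : N) (X : Matrix (Fin 4) (Fin 4) K8) :
    modAct (SemidirectProduct.inl n) (Multiplicative.ofAdd X) =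
      Multiplicative.ofAdd (mat n * X * tw (mat n)) := by
  rw [modAct, SemidirectProduct.lift_inl]; rfl

/-! ### elements -/

noncomputable def g5 : N := uS hF (0 : K8) 1 * wS hF
noncomputable def g13 : N := uS hF (0 : K8) (kE 3) * wS hF
noncomputable def g7 : N := dS hF (Units.mk0 (kE 2) (by decide +kernel))
noncomputable def g2 : N := uS hF (0 : K8) 1

theorem mat_g5 : mat g5 = utMat 1 (0 : K8) 1 * wMat K8 := rfl
theorem mat_g13 : mat g13 = utMat 1 (0 : K8) (kE 3) * wMat K8 := rfl
theorem mat_g7 : mat g7 = dgMat 1 (kE 2) := rfl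
theorem mat_g2 : mat g2 = utMat 1 (0 : K8) 1 := rfl

theorem mat_pow (g : N) : ∀ k : ℕ, mat (g ^ k) = mat g ^ k
  | 0 => mat_one
  | k + 1 => by rw [pow_succ, pow_succ, mat_mul, mat_pow g k]

theorem order5 : orderOf g5 = 5 := by
  haveI : Fact (Nat.Prime 5) := ⟨Nat.prime_five⟩
  refine orderOf_eq_prime (mat_injective ?_) fun h => ?_
  · rw [mat_pow, mat_g5, mat_one]; decide +kernel
  · have := congrArg mat h; rw [mat_g5, mat_one] at this; revert this; decide +kernel

theorem order13 : orderOf g13 = 13 := by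
  haveI : Fact (Nat.Prime 13) := ⟨by norm_num⟩
  refine orderOf_eq_prime (mat_injective ?_) fun h => ?_
  · rw [mat_pow, mat_g13, mat_one]; decide +kernel
  · have := congrArg mat h; rw [mat_g13, mat_one] at this; revert this; decide +kernel

theorem order7 : orderOf g7 = 7 := by
  haveI : Fact (Nat.Prime 7) := ⟨by norm_num⟩
  refine orderOf_eq_prime (mat_injective ?_) fun h => ?_
  · rw [mat_pow, mat_g7, mat_one]; decide +kernel
  · have := congrArg mat h; rw [mat_g7, mat_one] at this; revert this; decide +kernel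

theorem order2 : orderOf g2 = 2 := by
  haveI : Fact (Nat.Prime 2) := ⟨Nat.prime_two⟩
  refine orderOf_eq_prime (mat_injective ?_) fun h => ?_
  · rw [mat_pow, mat_g2, mat_one]; decide +kernel
  · have := congrArg mat h; rw [mat_g2, mat_one] at this; revert this; decide +kernel

theorem galAct_fix {g : N} (hg : (mat g).map frob = mat g) (c : Gal) : galAct c g = g := by
  apply mat_injective
  rw [mat_galAct]
  rcases gal_cases c with h | h | h <;> rw [h]
  · ext i j; rfl
  · exact hg
  · rw [show (mat g).map ((frob ^ 2 : K8 ≃+* K8)) = ((mat g).map frob).map frob from rfl, hg, hg]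

theorem trace_galAct (c : Gal) (g : N) :
    (mat (galAct c g)).trace = (c : K8 ≃+* K8) (mat g).trace := by
  rw [mat_galAct]
  simp [Matrix.trace, Matrix.diag, map_sum]

theorem trace_conj (n g : N) : (mat (n * g * n⁻¹)).trace = (mat g).trace := by
  rw [mat_mul, Matrix.trace_mul_comm, ← mat_mul, ← mul_assoc, inv_mul_cancel, one_mul]

/-- the centraliser in `Sz(8):3` of an element of `Sz(8)` with irrational trace lies in `Sz(8)` -/
theorem right_eq_one {g : N} (htr : frob (mat g).trace ≠ (mat g).trace ∧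
      (frob ^ 2) (mat g).trace ≠ (mat g).trace) {y : G} (hy : Commute (SemidirectProduct.inl g) y) :
    y.right = 1 ∧ Commute g y.left := by
  have hl := congrArg SemidirectProduct.left hy.eq
  simp only [SemidirectProduct.mul_left, SemidirectProduct.left_inl, SemidirectProduct.right_inl,
    map_one, MulAut.one_apply] at hl
  have h1 : g = y.left * galAct y.right g * y.left⁻¹ := by rw [← hl]; group
  have h2 : (y.right : K8 ≃+* K8) (mat g).trace = (mat g).trace := by
    rw [← trace_galAct, ← trace_conj y.left, ← h1]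
  have h3 : y.right = 1 := by
    rcases gal_cases y.right with h | h | h
    · exact Subtype.ext h
    · exact absurd (h ▸ h2) htr.1
    · exact absurd (h ▸ h2) htr.2
  rw [h3, map_one, MulAut.one_apply] at hl
  exact ⟨h3, hl⟩

theorem cen13 {y : N} (hy : Commute g13 y) : y ^ 13 = 1 := by
  have hE : SzTori.InE g13 := ⟨fun h => by
      have := order13; rw [h, orderOf_one] at this; norm_num at this,
    by
      have h65 : Fintype.card K8 ^ 2 + 1 = 13 * 5 := by rw [card_k8]; norm_num
      rw [h65, pow_mul, ← order13, pow_orderOf_eq_one, one_pow]⟩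
  have h1 := (SzTori.torus_orders hF le_rfl).1 g13 hE
  have hmem : g13 ∈ Subgroup.centralizer ({g13} : Set N) := SzTori.mem_centralizer_iff'.2 rfl
  have h13 : 13 ∣ Nat.card (Subgroup.centralizer ({g13} : Set N)) :=
    order13 ▸ Subgroup.orderOf_dvd_natCard _ hmem
  norm_num at h1
  have hc : Nat.card (Subgroup.centralizer ({g13} : Set N)) = 13 := by
    rcases h1 with h1 | h1
    · exact h1
    · exfalso
      rw [show Nat.card (Subgroup.centralizer ({g13} : Set N)) = 5 from h1] at h13
      norm_num at h13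
  exact orderOf_dvd_iff_pow_eq_one.1 (hc ▸ Subgroup.orderOf_dvd_natCard _
    (SzTori.mem_centralizer_iff'.2 hy.eq))

theorem cen7 {y : N} (hy : Commute g7 y) : y ^ 7 = 1 := by
  set e : K8ˣ := Units.mk0 (kE 2) (by decide +kernel) with he
  have he1 : e ≠ 1 := fun h => by
    have := congrArg (fun u : K8ˣ => (u : K8)) h
    revert this; rw [he, Units.val_mk0, Units.val_one]; decide +kernel
  have hc : y * dS hF e * y⁻¹ = dS hF e := by
    show y * g7 * y⁻¹ = g7
    rw [← hy.eq, mul_inv_cancel_right]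
  rcases SzTori.conj_dS_cases hF le_rfl he1 hc with ⟨a, rfl, -⟩ | ⟨a, -, h⟩
  · have := SzTori.dS_pow_card hF (e := a)
    rw [card_k8] at this
    exact this le_rfl
  · exfalso
    have := congrArg (fun u : K8ˣ => (u : K8)) h
    revert this
    rw [he, Units.val_inv_eq_inv_val, Units.val_mk0]
    decide +kernel

theorem cenG13 {y : G} (hy : Commute (SemidirectProduct.inl g13) y) : y ^ 13 = 1 := by
  obtain ⟨h1, h2⟩ := right_eq_one (by rw [mat_g13]; decide +kernel) hy
  have e : y = SemidirectProduct.inl y.left := by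
    rw [← SemidirectProduct.inl_left_mul_inr_right y, h1, map_one, mul_one]; simp
  rw [e, ← map_pow, cen13 h2, map_one]

theorem cenG7 {y : G} (hy : Commute (SemidirectProduct.inl g7) y) : y ^ 7 = 1 := by
  obtain ⟨h1, h2⟩ := right_eq_one (by rw [mat_g7]; decide +kernel) hy
  have e : y = SemidirectProduct.inl y.left := by
    rw [← SemidirectProduct.inl_left_mul_inr_right y, h1, map_one, mul_one]; simp
  rw [e, ← map_pow, cen7 h2, map_one]

theorem orderG (g : N) : orderOf (SemidirectProduct.inl g : G) = orderOf g :=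
  orderOf_injective _ SemidirectProduct.inl_injective g

/-- inverse of `(g^σ)ᵀ` for the element of order 13 -/
def h13 : Matrix (Fin 4) (Fin 4) K8 :=
  !![0, 0, 0, 1; 0, 0, 1, 0; 0, 1, 0, kE 7; 1, 0, kE 7, kE 5]

def r13 : Matrix (Fin 4) (Fin 4) K8 :=
  !![0, 1, kE 5, kE 3; 1, kE 2, kE 2, kE 5; kE 5, kE 2, kE 4, kE 3; kE 3, kE 5, kE 3, kE 2]

theorem fixed13 {X : Mod} (h : modAct (SemidirectProduct.inl g13) X = X) : X = 1 := by
  obtain ⟨A, rfl⟩ := Multiplicative.ofAdd.surjective X
  rw [modAct_inl] at h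
  have h0 : mat g13 * A * tw (mat g13) = A := Multiplicative.ofAdd.injective h
  set g := mat g13 with hg
  have e1 : g * A = A * h13 := by
    have hh : tw g * h13 = 1 := by rw [hg, mat_g13]; decide +kernel
    calc g * A = g * A * (tw g * h13) := by rw [hh, Matrix.mul_one]
      _ = g * A * tw g * h13 := by rw [Matrix.mul_assoc (g * A)]
      _ = A * h13 := by rw [h0]
  have e2 : ∀ k : ℕ, g ^ k * A = A * h13 ^ k := by
    intro k
    induction k with
    | zero => simp
    | succ k ih => rw [pow_succ, Matrix.mul_assoc, e1, ← Matrix.mul_assoc, ih, Matrix.mul_assoc, ← pow_succ]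
  have hcp : g ^ 4 + kE 7 • g ^ 3 + kE 5 • g ^ 2 + kE 7 • g ^ 1 + kE 1 • g ^ 0 = 0 := by
    rw [hg, mat_g13]; decide +kernel
  have hq : (h13 ^ 4 + kE 7 • h13 ^ 3 + kE 5 • h13 ^ 2 + kE 7 • h13 ^ 1 + kE 1 • h13 ^ 0) * r13 = 1 := by
    decide +kernel
  have h2 := congrArg (fun Z => Z * A) hcp
  simp only [Matrix.add_mul, Matrix.smul_mul, e2, Matrix.zero_mul] at h2
  have h3 : A = 0 := by
    rw [← Matrix.mul_one A, ← hq, ← Matrix.mul_assoc]
    simp only [Matrix.mul_add, Matrix.mul_smul]
    rw [h2, Matrix.zero_mul]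
  rw [h3]; rfl

def x5 : Matrix (Fin 4) (Fin 4) K8 := !![0, 0, 0, 1; 0, 0, 1, 0; 0, 1, 0, 0; 1, 0, 0, 0]
def x7 : Matrix (Fin 4) (Fin 4) K8 := !![0, 0, 0, 0; 1, 0, 0, 0; 0, 0, 0, 0; 0, 0, 0, 0]

theorem fix5 : modAct (SemidirectProduct.inl g5) (Multiplicative.ofAdd x5) = Multiplicative.ofAdd x5 := by
  rw [modAct_inl, mat_g5]
  exact congrArg _ (by decide +kernel)

theorem fix7 : modAct (SemidirectProduct.inl g7) (Multiplicative.ofAdd x7) = Multiplicative.ofAdd x7 := by
  rw [modAct_inl, mat_g7]
  exact congrArg _ (by decide +kernel)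

theorem exists_fifteen : ∃ x : G, orderOf x = 15 := by
  have hc : Commute (SemidirectProduct.inl g5 : G) (SemidirectProduct.inr ⟨frob, Subgroup.mem_zpowers _⟩) := by
    have h := SemidirectProduct.inl_aut (φ := galAct) ⟨frob, Subgroup.mem_zpowers _⟩ g5
    rw [galAct_fix (by rw [mat_g5]; decide +kernel)] at h
    rw [map_inv] at h
    exact (eq_mul_inv_iff_mul_eq.1 h)
  refine ⟨_, (Commute.orderOf_mul_eq_mul_orderOf_of_coprime hc ?_).trans ?_⟩
  all_goals rw [orderG, order5, orderOf_injective _ SemidirectProduct.inr_injective, Subgroup.orderOf_mk, frob_order]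
  decide

theorem exists_six : ∃ x : G, orderOf x = 6 := by
  have hc : Commute (SemidirectProduct.inl g2 : G) (SemidirectProduct.inr ⟨frob, Subgroup.mem_zpowers _⟩) := by
    have h := SemidirectProduct.inl_aut (φ := galAct) ⟨frob, Subgroup.mem_zpowers _⟩ g2
    rw [galAct_fix (by rw [mat_g2]; decide +kernel)] at h
    rw [map_inv] at h
    exact (eq_mul_inv_iff_mul_eq.1 h)
  refine ⟨_, (Commute.orderOf_mul_eq_mul_orderOf_of_coprime hc ?_).trans ?_⟩
  all_goals rw [orderG, order2, orderOf_injective _ SemidirectProduct.inr_injective, Subgroup.orderOf_mk, frob_order]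
  decide

end Cfsg.Agent.Lib.Sz8
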